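import Mathlib
import Groth.Agent.Lib.Helper5.Glue.F
import Groth.Agent.Lib.Lead.QC.TensorDesc

/-!
# Tensoring a module with finite closed support with an invertible module does not change its
global sections (non-canonically).
-/

set_option autoImplicit false
universe u
open CategoryTheory CategoryTheory.Limits AlgebraicGeometry TopologicalSpace Opposite

namespace Groth.Agent.H5.Curve2

open Groth.Agent.LD Groth.Agent.LD.QC Groth.Agent.H5.Glue

variable {X : Scheme.{u}}

/-- the support of `T` is contained in `S`. -/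
def SuppIn (T : X.Modules) (S : Set X) : Prop :=
  ∀ x, x ∉ S → Subsingleton (T.presheaf.stalk x)

lemma sec_ext (T : X.Modules) (V : X.Opens) (s t : Γ(T, V))
    (h : ∀ x (hx : x ∈ V), T.presheaf.germ V x hx s = T.presheaf.germ V x hx t) : s = t :=
  TopCat.Presheaf.section_ext (⟨T.presheaf, T.isSheaf⟩ : TopCat.Sheaf Ab X) V s t h

lemma sec_eq_zero_of_disjoint {T : X.Modules} {S : Set X} (h : SuppIn T S) (V : X.Opens)
    (hV : ∀ x ∈ V, x ∉ S) (t : Γ(T, V)) : t = 0 := by
  apply sec_ext
  intro x hx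
  haveI := h x (hV x hx)
  exact Subsingleton.elim _ _

lemma germ_mres (T : X.Modules) {U V : X.Opens} (hle : V ≤ U) (x : X) (hx : x ∈ V) (t : Γ(T, U)) :
    T.presheaf.germ V x hx (mres T hle t) = T.presheaf.germ U x (hle hx) t :=
  TopCat.Presheaf.germ_res_apply T.presheaf (homOfLE hle) x hx t

/-- a module supported on a closed set `S` of isolated points: global sections are families of
local sections around the points of `S`. -/
lemma bijective_res_family (T : X.Modules) (S : Set X) (hScl : IsClosed S) (h : SuppIn T S)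
    (W : S → X.Opens) (hW : ∀ y : S, y.1 ∈ W y) (hW' : ∀ y y' : S, y'.1 ∈ W y → y' = y) :
    Function.Bijective (fun t : Γ(T, ⊤) => fun y : S => mres T (le_top : W y ≤ ⊤) t) := by
  classical
  constructor
  · intro t t' htt
    apply sec_ext
    intro x _
    by_cases hx : x ∈ S
    · have h1 := congrFun htt ⟨x, hx⟩
      have h2 := congrArg (T.presheaf.germ (W ⟨x, hx⟩) x (hW ⟨x, hx⟩)) h1
      rwa [germ_mres, germ_mres] at h2
    · haveI := h x hx
      exact Subsingleton.elim _ _
  · intro τ
    let U : Option S → X.Opens := fun o => o.elim ⟨Sᶜ, hScl.isOpen_compl⟩ W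
    have hU : iSup U = ⊤ := by
      rw [eq_top_iff]
      intro x _
      by_cases hx : x ∈ S
      · exact Opens.mem_iSup.mpr ⟨some ⟨x, hx⟩, hW ⟨x, hx⟩⟩
      · exact Opens.mem_iSup.mpr ⟨none, hx⟩
    let σ : ∀ o, Γ(T, U o) := fun o =>
      Option.rec (motive := fun o => Γ(T, U o)) (0 : Γ(T, (⟨Sᶜ, hScl.isOpen_compl⟩ : X.Opens)))
        (fun y => τ y) o
    have hdis : ∀ (i j : Option S), i ≠ j → ∀ x ∈ U i ⊓ U j, x ∉ S := by
      intro i j hij x hx hxS
      cases i with
      | none => exact hx.1 hxS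
      | some y =>
        cases j with
        | none => exact hx.2 hxS
        | some y' =>
          have h1 : (⟨x, hxS⟩ : S) = y := hW' y ⟨x, hxS⟩ hx.1
          have h2 : (⟨x, hxS⟩ : S) = y' := hW' y' ⟨x, hxS⟩ hx.2
          exact hij (by rw [← h1, ← h2])
    have hσ : ∀ i j, mres T (inf_le_left : U i ⊓ U j ≤ U i) (σ i) =
        mres T (inf_le_right : U i ⊓ U j ≤ U j) (σ j) := by
      intro i j
      by_cases hij : i = j
      · subst hij
        rfl
      · rw [sec_eq_zero_of_disjoint h _ (hdis i j hij) (mres T _ (σ i)),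
          sec_eq_zero_of_disjoint h _ (hdis i j hij) (mres T _ (σ j))]
    obtain ⟨t, ht, -⟩ := existsUnique_glue_sec T U hU σ hσ
    exact ⟨t, funext fun y => ht (some y)⟩

lemma tmul_zero_left (F L : X.Modules) (V : X.Opens) (e : Γ(L, V)) :
    SecTwist.tmul F L V 0 e = 0 := by
  have h := tmul_add_left F L V 0 0 e
  rw [add_zero] at h
  exact left_eq_add.mp h

/-- the support of `T ⊗ M` is contained in that of `T`, for `M` invertible. -/
lemma SuppIn.tensor {T : X.Modules} {S : Set X} (h : SuppIn T S) (hScl : IsClosed S)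
    (M : X.Modules) (hM : PicF.IsInvertible M) : SuppIn (CohB1.tensorMod T M) S := by
  intro x hx
  refine subsingleton_of_forall_eq 0 (fun g => ?_)
  obtain ⟨V, hxV, s, rfl⟩ := TopCat.Presheaf.exists_germ_eq (F := (CohB1.tensorMod T M).presheaf) (x := x) g
  obtain ⟨U, e, hxU, he⟩ := (isInvertible_iff_exists_isBasisOver M).mp hM x
  let V' : X.Opens := V ⊓ U ⊓ ⟨Sᶜ, hScl.isOpen_compl⟩
  have hxV' : x ∈ V' := ⟨⟨hxV, hxU⟩, hx⟩
  have hV'U : V' ≤ U := inf_le_left.trans inf_le_right
  have hV'V : V' ≤ V := inf_le_left.trans inf_le_left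
  obtain ⟨t, ht⟩ := (bijective_tmul_of_isBasisOver T M he V' hV'U).2
    (mres (CohB1.tensorMod T M) hV'V s)
  have ht0 : t = 0 := sec_eq_zero_of_disjoint h V' (fun y hy => hy.2) t
  rw [ht0] at ht
  have ht' : SecTwist.tmul T M V' 0 (M.presheaf.map (homOfLE hV'U).op e) =
      mres (CohB1.tensorMod T M) hV'V s := ht
  rw [tmul_zero_left] at ht'
  rw [← germ_mres (CohB1.tensorMod T M) hV'V x hxV' s, ← ht']
  exact map_zero _

lemma mres_add (T : X.Modules) {U V : X.Opens} (hle : V ≤ U) (s t : Γ(T, U)) :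
    mres T hle (s + t) = mres T hle s + mres T hle t :=
  map_add _ _ _

/-- **Tensoring a module with discrete closed support with an invertible module does not change
its global sections**, compatibly with the action of global functions. -/
theorem exists_addEquiv_tensor (T M : X.Modules) (hM : PicF.IsInvertible M) (S : Set X)
    (hScl : IsClosed S) (h : SuppIn T S)
    (hiso : ∀ y : S, ∃ W : X.Opens, y.1 ∈ W ∧ ∀ y' : S, y'.1 ∈ W → y' = y) :
    ∃ Φ : Γ(T, ⊤) ≃+ Γ(CohB1.tensorMod T M, ⊤),
      ∀ (a : Γ(X, ⊤)) (t : Γ(T, ⊤)), Φ (a • t) = a • Φ t := by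
  classical
  choose W' hW'1 hW'2 using hiso
  have hb := fun y : S => (isInvertible_iff_exists_isBasisOver M).mp hM y.1
  choose U e hyU he using hb
  let W : S → X.Opens := fun y => U y ⊓ W' y
  have hW : ∀ y : S, y.1 ∈ W y := fun y => ⟨hyU y, hW'1 y⟩
  have hWiso : ∀ y y' : S, y'.1 ∈ W y → y' = y := fun y y' hy => hW'2 y y' hy.2
  have hWU : ∀ y, W y ≤ U y := fun y => inf_le_left
  have hTM : SuppIn (CohB1.tensorMod T M) S := h.tensor hScl M hM
  have b1 := bijective_res_family T S hScl h W hW hWiso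
  have b2 := bijective_res_family (CohB1.tensorMod T M) S hScl hTM W hW hWiso
  have b3 : ∀ y : S, Function.Bijective (fun t : Γ(T, W y) =>
      SecTwist.tmul T M (W y) t (M.presheaf.map (homOfLE (hWU y)).op (e y))) :=
    fun y => bijective_tmul_of_isBasisOver T M (he y) (W y) (hWU y)
  -- the defining property
  have key : ∀ t : Γ(T, ⊤), ∃! s : Γ(CohB1.tensorMod T M, ⊤), ∀ y : S,
      mres (CohB1.tensorMod T M) (le_top : W y ≤ ⊤) s =
        SecTwist.tmul T M (W y) (mres T (le_top : W y ≤ ⊤) t)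
          (M.presheaf.map (homOfLE (hWU y)).op (e y)) := by
    intro t
    obtain ⟨s, hs⟩ := b2.2 (fun y => SecTwist.tmul T M (W y) (mres T (le_top : W y ≤ ⊤) t)
          (M.presheaf.map (homOfLE (hWU y)).op (e y)))
    refine ⟨s, fun y => congrFun hs y, fun s' hs' => b2.1 ?_⟩
    rw [hs]
    exact funext hs'
  choose φ hφ hφu using key
  have hinj : Function.Injective φ := by
    intro t t' htt
    apply b1.1
    funext y
    apply (b3 y).1
    change SecTwist.tmul T M (W y) (mres T (le_top : W y ≤ ⊤) t) _ =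
      SecTwist.tmul T M (W y) (mres T (le_top : W y ≤ ⊤) t') _
    rw [← hφ t y, ← hφ t' y, htt]
  have hsurj : Function.Surjective φ := by
    intro s
    have : ∀ y : S, ∃ ty : Γ(T, W y), SecTwist.tmul T M (W y) ty
        (M.presheaf.map (homOfLE (hWU y)).op (e y)) =
          mres (CohB1.tensorMod T M) (le_top : W y ≤ ⊤) s := fun y => (b3 y).2 _
    choose τ hτ using this
    obtain ⟨t, ht⟩ := b1.2 τ
    refine ⟨t, (hφu t s fun y => ?_).symm⟩
    rw [← hτ y]
    congr 1
    exact (congrFun ht y).symm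
  have hadd : ∀ t t', φ (t + t') = φ t + φ t' := by
    intro t t'
    refine (hφu (t + t') (φ t + φ t') fun y => ?_).symm
    rw [mres_add, mres_add, hφ t y, hφ t' y, tmul_add_left]
    rfl
  refine ⟨AddEquiv.ofBijective (AddMonoidHom.mk' φ hadd) ⟨hinj, hsurj⟩, fun a t => ?_⟩
  change φ (a • t) = a • φ t
  refine (hφu (a • t) (a • φ t) fun y => ?_).symm
  rw [mres_smul, mres_smul, hφ t y, tmul_smul_left]
  rfl

end Groth.Agent.H5.Curve2
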