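import Mathlib
import Groth.Agent.Lib.Helper5.Curve2.A
import Groth.Agent.Lib.Lead.Curve.Torsion
import Groth.Agent.Lib.Lead.QC.AmpleGG

/-!
# Euler characteristic of a torsion module is invariant under twisting by an invertible module.
-/

set_option autoImplicit false
universe u
open CategoryTheory CategoryTheory.Limits AlgebraicGeometry TopologicalSpace Opposite

namespace Groth.Agent.H5.Curve2

open Groth.Agent.LD Groth.Agent.LD.QC Groth.Agent.H5.Glue

section

variable {X : Scheme.{u}}

/-- a closed subset of a Noetherian scheme all of whose points are closed is finite. -/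
lemma finite_of_isClosed_of_closed_points [NoetherianSpace X] (Z : Set X) (hZ : IsClosed Z)
    (hpt : ∀ x ∈ Z, IsClosed ({x} : Set X)) : Z.Finite := by
  obtain ⟨S, hSf, hSc, hSi, hSU⟩ :=
    NoetherianSpace.exists_finite_set_isClosed_irreducible hZ
  rw [hSU]
  refine Set.Finite.sUnion hSf fun t ht => ?_
  obtain ⟨g, hg⟩ := QuasiSober.sober (hSi t ht) (hSc t ht)
  have hgt : g ∈ t := by
    have := hg.mem
    exact this
  have hgZ : g ∈ Z := by
    have h1 : t ⊆ Z := by rw [hSU]; exact Set.subset_sUnion_of_mem ht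
    exact h1 hgt
  have hcl := hpt g hgZ
  have : t = {g} := by
    rw [← hg.def, hcl.closure_eq]
  rw [this]
  exact Set.finite_singleton g

lemma exists_isolating_open (Z : Set X) (hZf : Z.Finite)
    (hpt : ∀ x ∈ Z, IsClosed ({x} : Set X)) (y : Z) :
    ∃ W : X.Opens, y.1 ∈ W ∧ ∀ y' : Z, y'.1 ∈ W → y' = y := by
  have hfin : (Z \ {y.1}).Finite := hZf.subset Set.sdiff_subset
  have hcl : IsClosed (Z \ {y.1}) := by
    have : Z \ {y.1} = ⋃ x ∈ Z \ {y.1}, {x} := (Set.biUnion_of_singleton _).symm
    rw [this]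
    exact hfin.isClosed_biUnion fun x hx => hpt x hx.1
  refine ⟨⟨(Z \ {y.1})ᶜ, hcl.isOpen_compl⟩, ?_, ?_⟩
  · intro hy
    exact hy.2 rfl
  · intro y' hy'
    by_contra hne
    exact hy' ⟨y'.2, fun h => hne (Subtype.ext h)⟩

end

variable (k : Type u) [Field k] (X : Scheme.{u}) [X.Over (Spec (CommRingCat.of k))]
  [IsProper (X ↘ Spec (CommRingCat.of k))]

/-- twisting a coherent module supported at closed points by an invertible module: the support
still consists of closed points, and `dim H⁰` is unchanged. -/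
theorem finrank_tensor_of_support_closed_points (T : X.Modules) (hT : Coh.IsCoh T)
    (hpt : ∀ x : X, ¬ Subsingleton (T.presheaf.stalk x) → IsClosed ({x} : Set X))
    (M : X.Modules) (hM : PicF.IsInvertible M) :
    Coh.IsCoh (CohB1.tensorMod T M) ∧
    (∀ x : X, ¬ Subsingleton ((CohB1.tensorMod T M).presheaf.stalk x) → IsClosed ({x} : Set X)) ∧
    Module.finrank k (Coh.HH X (CohB1.tensorMod T M) 0) = Module.finrank k (Coh.HH X T 0) := by
  haveI := Curve.isLocallyNoetherian k X
  haveI := Curve.compactSpace k X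
  haveI : T.IsQuasicoherent := hT.1
  haveI : M.IsQuasicoherent := qc_of_isInvertible M hM
  have hcoh : Coh.IsCoh (CohB1.tensorMod T M) :=
    ⟨tensorMod_isQuasicoherent _ _, isFiniteType_tensorMod_of_isInvertible T hT.2 M hM⟩
  let Z : Set X := {x : X | ¬ Subsingleton (T.presheaf.stalk x)}
  have hZ : IsClosed Z := isClosed_support_of_isFiniteType T hT.2
  have hsupp : SuppIn T Z := fun x hx => not_not.mp hx
  have hsuppTM : SuppIn (CohB1.tensorMod T M) Z := hsupp.tensor hZ M hM
  have hptTM : ∀ x : X, ¬ Subsingleton ((CohB1.tensorMod T M).presheaf.stalk x) →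
      IsClosed ({x} : Set X) := by
    intro x hx
    apply hpt x
    intro hsub
    exact hx (hsuppTM x (fun hxZ => hxZ hsub))
  refine ⟨hcoh, hptTM, ?_⟩
  haveI : IsNoetherian X := { }
  have hZf : Z.Finite := finite_of_isClosed_of_closed_points Z hZ (fun x hx => hpt x hx)
  obtain ⟨Φ, hΦ⟩ := exists_addEquiv_tensor T M hM Z hZ hsupp
    (fun y => exists_isolating_open Z hZf (fun x hx => hpt x hx) y)
  letI := PF.moduleΓ k T
  letI := PF.moduleΓ k (CohB1.tensorMod T M)
  let Ψ : (T.val.obj (op ⊤)) ≃ₗ[k] ((CohB1.tensorMod T M).val.obj (op ⊤)) :=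
    { Φ with
      map_smul' := fun r t => hΦ (Coh.toGlobal (X ↘ Spec (CommRingCat.of k)) r) t }
  exact ((PF.H0LinearEquivΓ k (CohB1.tensorMod T M)).trans
    (Ψ.symm.trans (PF.H0LinearEquivΓ k T).symm)).finrank_eq

/-- the Euler characteristic of a coherent module supported at closed points is unchanged by
twisting with an invertible module. -/
theorem euler_tensor_of_support_closed_points (T : X.Modules) (hT : Coh.IsCoh T)
    (hpt : ∀ x : X, ¬ Subsingleton (T.presheaf.stalk x) → IsClosed ({x} : Set X))
    (M : X.Modules) (hM : PicF.IsInvertible M) :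
    Curv2.euler k X (CohB1.tensorMod T M) = Curv2.euler k X T := by
  obtain ⟨h1, h2, h3⟩ := finrank_tensor_of_support_closed_points k X T hT hpt M hM
  rw [Curve.euler_of_support_closed_points k X _ h1 h2,
    Curve.euler_of_support_closed_points k X T hT hpt, h3]

end Groth.Agent.H5.Curve2
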