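import Mathlib
import Groth.Agent.Lib.Helper5.Curve2.B
import Groth.Agent.Lib.Lead.Curve.InvMono
import Groth.Agent.Lib.Lead.QC.TensorExact
import Groth.Agent.Lib.Lead.QC.Mon

/-!
# Additivity of the degree on an integral proper curve: the effective case.
-/

set_option autoImplicit false
universe u
open CategoryTheory CategoryTheory.Limits AlgebraicGeometry TopologicalSpace Opposite

namespace Groth.Agent.H5.Curve2

open Groth.Agent.LD Groth.Agent.LD.QC Groth.Agent.H5.Glue

variable (k : Type u) [Field k] (X : Scheme.{u}) [X.Over (Spec (CommRingCat.of k))]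
  [IsProper (X ↘ Spec (CommRingCat.of k))] [IsIntegral X]

lemma isCoh_of_isInvertible {Y : Scheme.{u}} {L : Y.Modules} (hL : PicF.IsInvertible L) :
    Coh.IsCoh L :=
  Curve.isCoh_of_rank ((isInvertible_iff L).mp hL)

lemma isCoh_tensor_of_isInvertible {Y : Scheme.{u}} {F M : Y.Modules} (hF : Coh.IsCoh F)
    (hM : PicF.IsInvertible M) : Coh.IsCoh (CohB1.tensorMod F M) := by
  haveI : F.IsQuasicoherent := hF.1
  haveI : M.IsQuasicoherent := qc_of_isInvertible M hM
  exact ⟨tensorMod_isQuasicoherent _ _, isFiniteType_tensorMod_of_isInvertible F hF.2 M hM⟩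

/-- **Key lemma**: for a nonzero map `φ : N ⟶ P` of invertible modules on an integral proper
curve, `χ(P ⊗ M) - χ(N ⊗ M)` does not depend on the invertible module `M`. -/
theorem euler_tensor_sub (hdim : topologicalKrullDim X ≤ 1) {N P : X.Modules}
    (hN : PicF.IsInvertible N) (hP : PicF.IsInvertible P) (φ : N ⟶ P) (hφ : φ ≠ 0)
    (M : X.Modules) (hM : PicF.IsInvertible M) :
    Curv2.euler k X (CohB1.tensorMod P M) - Curv2.euler k X (CohB1.tensorMod N M) =
      Curv2.euler k X P - Curv2.euler k X N := by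
  haveI := Curve.mono_of_ne_zero hN hP φ hφ
  have hNc := isCoh_of_isInvertible hN
  have hPc := isCoh_of_isInvertible hP
  have hQc : Coh.IsCoh (cokernel φ) := isCoh_cokernel φ hNc hPc
  let S : ShortComplex X.Modules := ShortComplex.mk φ (cokernel.π φ) (cokernel.condition φ)
  have hS : S.ShortExact :=
    { exact := ShortComplex.exact_cokernel φ
      mono_f := inferInstanceAs (Mono φ)
      epi_g := inferInstanceAs (Epi (cokernel.π φ)) }
  have hη := Curve.subsingleton_stalk_cokernel 1 ((isInvertible_iff N).mp hN)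
    ((isInvertible_iff P).mp hP) φ
  have hpt : ∀ x : X, ¬ Subsingleton ((cokernel φ).presheaf.stalk x) → IsClosed ({x} : Set X) :=
    fun x hx => Curve.isClosed_singleton_of_stalk hdim (cokernel φ) hη x hx
  have h1 : Curv2.euler k X P = Curv2.euler k X N + Curv2.euler k X (cokernel φ) :=
    Curve.euler_add k X S hS hNc hPc hQc
  have hS' := shortExact_tensorMap_of_isInvertible hS M hM
  have c1 : Coh.IsCoh (CohB1.tensorMod N M) := isCoh_tensor_of_isInvertible hNc hM
  have c2 : Coh.IsCoh (CohB1.tensorMod P M) := isCoh_tensor_of_isInvertible hPc hM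
  have c3 : Coh.IsCoh (CohB1.tensorMod (cokernel φ) M) := isCoh_tensor_of_isInvertible hQc hM
  have h2 := Curve.euler_add k X _ hS' c1 c2 c3
  have h2' : Curv2.euler k X (CohB1.tensorMod P M) =
      Curv2.euler k X (CohB1.tensorMod N M) + Curv2.euler k X (CohB1.tensorMod (cokernel φ) M) :=
    h2
  have h3 := euler_tensor_of_support_closed_points k X (cokernel φ) hQc hpt M hM
  linarith

/-- additivity of the degree when the first factor has a nonzero section. -/
theorem deg_tensor_of_section (hdim : topologicalKrullDim X ≤ 1) {P : X.Modules}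
    (hP : PicF.IsInvertible P) (σ : unitMod X ⟶ P) (hσ : σ ≠ 0)
    (M : X.Modules) (hM : PicF.IsInvertible M) :
    Curv2.deg k X (CohB1.tensorMod P M) 1 = Curv2.deg k X P 1 + Curv2.deg k X M 1 := by
  haveI : M.IsQuasicoherent := qc_of_isInvertible M hM
  have h := euler_tensor_sub k X hdim (isInvertible_unit X) hP σ hσ M hM
  have h2 : Curv2.euler k X (CohB1.tensorMod (unitMod X) M) = Curv2.euler k X M :=
    Curve.euler_iso k X (unitorL M)
  rw [h2] at h
  unfold Curv2.deg
  have h3 : Curv2.euler k X (unitMod X) = Curv2.euler k X (Coh.structureModule X) := rfl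
  rw [h3] at h
  push_cast
  linarith

/-- additivity of the degree, assuming a common "effective denominator" `P`. -/
theorem deg_tensor_of_effective (hdim : topologicalKrullDim X ≤ 1) {L M P : X.Modules}
    (hL : PicF.IsInvertible L) (hM : PicF.IsInvertible M) (hP : PicF.IsInvertible P)
    (σ : unitMod X ⟶ P) (hσ : σ ≠ 0) (τ : unitMod X ⟶ CohB1.tensorMod L P) (hτ : τ ≠ 0) :
    Curv2.deg k X (CohB1.tensorMod L M) 1 = Curv2.deg k X L 1 + Curv2.deg k X M 1 := by
  haveI : M.IsQuasicoherent := qc_of_isInvertible M hM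
  haveI : L.IsQuasicoherent := qc_of_isInvertible L hL
  haveI : P.IsQuasicoherent := qc_of_isInvertible P hP
  have hLP : PicF.IsInvertible (CohB1.tensorMod L P) := isInvertible_tensorMod hL hP
  have hLM : PicF.IsInvertible (CohB1.tensorMod L M) := isInvertible_tensorMod hL hM
  haveI : (CohB1.tensorMod L M).IsQuasicoherent := qc_of_isInvertible _ hLM
  -- (L ⊗ P) ⊗ M
  have e1 := deg_tensor_of_section k X hdim hLP τ hτ M hM
  -- L ⊗ P ≅ P ⊗ L
  have e2 : Curv2.deg k X (CohB1.tensorMod L P) 1 = Curv2.deg k X P 1 + Curv2.deg k X L 1 := by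
    rw [Curve.deg_iso k X (tensorComm L P) 1]
    exact deg_tensor_of_section k X hdim hP σ hσ L hL
  -- (L ⊗ P) ⊗ M ≅ P ⊗ (L ⊗ M)
  have e3 : Curv2.deg k X (CohB1.tensorMod (CohB1.tensorMod L P) M) 1 =
      Curv2.deg k X P 1 + Curv2.deg k X (CohB1.tensorMod L M) 1 := by
    have iso : CohB1.tensorMod (CohB1.tensorMod L P) M ≅
        CohB1.tensorMod P (CohB1.tensorMod L M) :=
      tensorIso' (tensorComm L P) (Iso.refl M) ≪≫ tensorAssoc P L M
    rw [Curve.deg_iso k X iso 1]
    exact deg_tensor_of_section k X hdim hP σ hσ _ hLM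
  linarith

end Groth.Agent.H5.Curve2
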