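import Mathlib
import Groth.Agent.Lib.Helper5.Curve2.C
import Groth.Agent.Lib.Helper5.Curve1.G
import Groth.Agent.Lib.Lead.QC.AmpleGG

/-!
# Additivity of the degree on an integral proper curve.
-/

set_option autoImplicit false
universe u
open CategoryTheory CategoryTheory.Limits AlgebraicGeometry TopologicalSpace Opposite

namespace Groth.Agent.H5.Curve2

open Groth.Agent.LD Groth.Agent.LD.QC Groth.Agent.H5.Glue

section

variable {X : Scheme.{u}} [IsIntegral X]

lemma not_isZero_of_isInvertible {G : X.Modules} (hG : PicF.IsInvertible G) : ¬ IsZero G := by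
  intro hz
  obtain ⟨U, e, hxU, he⟩ := (isInvertible_iff_exists_isBasisOver G).mp hG (genericPoint X)
  haveI : Nonempty U := ⟨⟨genericPoint X, hxU⟩⟩
  haveI : IsDomain Γ(X, U) := IsIntegral.component_integral U
  have h1 := (he U le_rfl).1
  have h2 : (fun a : Γ(X, U) => a • G.presheaf.map (homOfLE (le_refl U)).op e) 1 =
      (fun a : Γ(X, U) => a • G.presheaf.map (homOfLE (le_refl U)).op e) 0 := by
    change (1 : Γ(X, U)) • _ = (0 : Γ(X, U)) • _
    rw [section_eq_zero_of_isZero G hz (G.presheaf.map (homOfLE (le_refl U)).op e), smul_zero,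
      smul_zero]
  exact one_ne_zero (h1 h2)

lemma exists_section_ne_zero_of_epi_free {G : X.Modules} (hG : PicF.IsInvertible G) {K : ℕ}
    (p : FlatMod.freeMod X K ⟶ G) [Epi p] : ∃ σ : unitMod X ⟶ G, σ ≠ 0 := by
  by_contra hcon
  have hcon : ∀ σ : unitMod X ⟶ G, σ = 0 := fun σ => by
    by_contra h
    exact hcon ⟨σ, h⟩
  have hp : p = 0 := by
    apply Sigma.hom_ext
    intro j
    rw [comp_zero]
    exact hcon _
  exact not_isZero_of_isInvertible hG (IsZero.of_epi_eq_zero p hp)

end

variable (k : Type u) [Field k] (X : Scheme.{u}) [X.Over (Spec (CommRingCat.of k))]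
  [IsProper (X ↘ Spec (CommRingCat.of k))] [IsIntegral X]

omit [IsIntegral X] in
include k in
lemma isSeparated_of_proper : X.IsSeparated := by
  have h : IsSeparated (X ↘ Spec (CommRingCat.of k)) := inferInstance
  exact (HasAffineProperty.iff_of_isAffine (P := @IsSeparated)).mp h

omit [IsIntegral X] in
include k in
lemma isNoetherian_of_proper : IsNoetherian X := by
  haveI := Curve.isLocallyNoetherian k X
  haveI := Curve.compactSpace k X
  exact { }

include k in
/-- every invertible module becomes effective after tensoring with a suitable effective one. -/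
theorem exists_effective_denominator (hdim : topologicalKrullDim X ≤ 1) (L : X.Modules)
    (hL : PicF.IsInvertible L) :
    ∃ (P : X.Modules) (_ : PicF.IsInvertible P) (σ : unitMod X ⟶ P)
      (τ : unitMod X ⟶ CohB1.tensorMod L P), σ ≠ 0 ∧ τ ≠ 0 := by
  haveI := isSeparated_of_proper k X
  haveI := isNoetherian_of_proper k X
  haveI := Curve.quasiSeparatedSpace k X
  obtain ⟨A, hA⟩ := Groth.Agent.H5.Curve1.exists_isAmple_of_integral (X := X) hdim
  have hAinv := hA.1
  haveI : L.IsQuasicoherent := qc_of_isInvertible L hL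
  haveI : (unitMod X).IsQuasicoherent := qc_of_isInvertible _ (isInvertible_unit X)
  obtain ⟨n₁, hn₁⟩ := exists_epi_free_of_isAmple A hA L (isCoh_of_isInvertible hL).2
  obtain ⟨n₂, hn₂⟩ := exists_epi_free_of_isAmple A hA (unitMod X)
    (isCoh_of_isInvertible (isInvertible_unit X)).2
  let n := max n₁ n₂
  have hP : PicF.IsInvertible (CohB1.tensorPow A n) := isInvertible_tensorPow hAinv n
  haveI : (CohB1.tensorPow A n).IsQuasicoherent := qc_of_isInvertible _ hP
  obtain ⟨K₁, p₁, hp₁⟩ := hn₁ n (le_max_left _ _)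
  obtain ⟨K₂, p₂, hp₂⟩ := hn₂ n (le_max_right _ _)
  obtain ⟨τ, hτ⟩ := exists_section_ne_zero_of_epi_free (isInvertible_tensorMod hL hP) p₁
  obtain ⟨σ', hσ'⟩ := exists_section_ne_zero_of_epi_free
    (isInvertible_tensorMod (isInvertible_unit X) hP) p₂
  refine ⟨CohB1.tensorPow A n, hP, σ' ≫ (unitorL _).hom, τ, ?_, hτ⟩
  intro h0
  apply hσ'
  rw [← cancel_mono (unitorL (CohB1.tensorPow A n)).hom, h0, zero_comp]

/-- **Additivity of the degree** of invertible modules on an integral proper curve. -/
theorem deg_tensor (hdim : topologicalKrullDim X ≤ 1) {L M : X.Modules}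
    (hL : PicF.IsInvertible L) (hM : PicF.IsInvertible M) :
    Curv2.deg k X (CohB1.tensorMod L M) 1 = Curv2.deg k X L 1 + Curv2.deg k X M 1 := by
  obtain ⟨P, hP, σ, τ, hσ, hτ⟩ := exists_effective_denominator k X hdim L hL
  exact deg_tensor_of_effective k X hdim hL hM hP σ hσ τ hτ

/-- the degree of a tensor power. -/
theorem deg_tensorPow (hdim : topologicalKrullDim X ≤ 1) {L : X.Modules}
    (hL : PicF.IsInvertible L) (n : ℕ) :
    Curv2.deg k X (CohB1.tensorPow L n) 1 = n * Curv2.deg k X L 1 := by
  induction n with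
  | zero =>
    change Curv2.deg k X (Coh.structureModule X) 1 = _
    rw [Curve.deg_structureModule]
    simp
  | succ n ih =>
    change Curv2.deg k X (CohB1.tensorMod (CohB1.tensorPow L n) L) 1 = _
    rw [deg_tensor k X hdim (isInvertible_tensorPow hL n) hL, ih]
    push_cast
    ring

end Groth.Agent.H5.Curve2
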