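import Mathlib
import Groth.Agent.Lib.Helper5.Curve2.D

/-!
# An ample invertible module on an integral proper curve has positive degree.
-/

set_option autoImplicit false
universe u
open CategoryTheory CategoryTheory.Limits AlgebraicGeometry TopologicalSpace Opposite

namespace Groth.Agent.H5.Curve2

open Groth.Agent.LD Groth.Agent.LD.QC Groth.Agent.H5.Glue

variable (k : Type u) [Field k] (X : Scheme.{u}) [X.Over (Spec (CommRingCat.of k))]
  [IsProper (X ↘ Spec (CommRingCat.of k))]

include k in
/-- a proper scheme of dimension one over a field is not affine. -/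
lemma not_isAffine_of_dim_one (hdim : topologicalKrullDim X = 1) : ¬ IsAffine X := by
  intro hA
  haveI : IsFinite (X ↘ Spec (CommRingCat.of k)) :=
    IsFinite.iff_isProper_and_isAffineHom.mpr ⟨inferInstance, inferInstance⟩
  haveI : IsLocallyArtinian (Spec (CommRingCat.of k)) :=
    Scheme.isLocallyArtinianScheme_Spec.mpr (inferInstanceAs (IsArtinianRing k))
  haveI : IsLocallyArtinian X := IsLocallyArtinian.of_locallyQuasiFinite
    (X ↘ Spec (CommRingCat.of k))
  have h := topologicalKrullDim_zero_of_discreteTopology X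
  rw [hdim] at h
  exact absurd h (by norm_num)

variable [IsIntegral X]

omit [IsProper (X ↘ Spec (CommRingCat.of k))] [X.Over (Spec (CommRingCat.of k))] in
lemma ne_zero_of_mem_genLocus {G : X.Modules} (s : unitMod X ⟶ G) (x : X)
    (hx : x ∈ CohB1.genLocus G s) : s ≠ 0 := by
  rintro rfl
  obtain ⟨U, hxU, hU⟩ := (mem_genLocus_iff G 0 x).mp hx
  haveI : Nonempty U := ⟨⟨x, hxU⟩⟩
  haveI : IsDomain Γ(X, U) := IsIntegral.component_integral U
  have h1 := (hU U le_rfl).1
  have hval : SecTwist.val (0 : unitMod X ⟶ G) U = 0 := rfl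
  rw [hval] at h1
  have h2 : (fun a : Γ(X, U) => a • G.presheaf.map (homOfLE (le_refl U)).op (0 : Γ(G, U))) 1 =
      (fun a : Γ(X, U) => a • G.presheaf.map (homOfLE (le_refl U)).op (0 : Γ(G, U))) 0 := by
    change (1 : Γ(X, U)) • _ = (0 : Γ(X, U)) • _
    rw [map_zero, smul_zero, smul_zero]
  exact one_ne_zero (h1 h2)

/-- a nonzero section of an invertible module vanishing somewhere forces positive degree
(= S1519, with `≤ 1`). -/
theorem deg_pos_of_section (hdim : topologicalKrullDim X ≤ 1) {L : X.Modules}
    (hL : PicF.IsInvertible L) (s : unitMod X ⟶ L) (hs : s ≠ 0) (x : X)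
    (hx : x ∉ CohB1.genLocus L s) : 0 < Curv2.deg k X L 1 := by
  have h := Curve.deg_le_of_ne_zero k X hdim (Curve.isInvertible_structureModule X) hL s hs
  rw [Curve.deg_structureModule] at h
  rcases lt_or_eq_of_le h.1 with h1 | h1
  · exact h1
  · exfalso
    haveI : IsIso s := h.2 h1
    apply hx
    have : (⊤ : X.Opens) ≤ CohB1.genLocus L s := by
      apply le_sSup
      change IsIso ((Scheme.Modules.restrictFunctor (⊤ : X.Opens).ι).map s)
      infer_instance
    exact this trivial

/-- **ample ⇒ positive degree** on an integral proper curve. -/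
theorem deg_pos_of_isAmple (hdim : topologicalKrullDim X = 1) {L : X.Modules}
    (hA : CohB1.IsAmple L) : 0 < Curv2.deg k X L 1 := by
  obtain ⟨hL, -, hcov⟩ := hA
  obtain ⟨n, s, hxs, haff⟩ := hcov (genericPoint X)
  have hs : s ≠ 0 := ne_zero_of_mem_genLocus X s _ hxs
  have hne : ∃ y : X, y ∉ CohB1.genLocus _ s := by
    by_contra hcon
    push Not at hcon
    have htop : CohB1.genLocus _ s = ⊤ := by
      rw [eq_top_iff]
      intro y _
      exact hcon y
    rw [htop] at haff
    apply not_isAffine_of_dim_one k X hdim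
    have haff' : IsAffine ((⊤ : X.Opens) : Scheme) := haff
    exact IsAffine.of_isIso X.topIso.inv
  obtain ⟨y, hy⟩ := hne
  have h1 := deg_pos_of_section k X hdim.le (isInvertible_tensorPow hL (n + 1)) s hs y hy
  rw [deg_tensorPow k X hdim.le hL (n + 1)] at h1
  have h2 : (0 : ℤ) < ((n + 1 : ℕ) : ℤ) := by positivity
  exact (mul_pos_iff_of_pos_left h2).mp h1

end Groth.Agent.H5.Curve2
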