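import Mathlib
import Groth.Agent.Lib.Helper5.Curve2.E
import Groth.Agent.Lib.Helper5.Glue.LS
import Groth.Agent.Lib.Lead.QC.SuppSES
import Groth.Agent.Lib.Lead.QC.SerreSupp
import Groth.Agent.Lib.Lead.CohLES.Vanish
import Groth.Agent.Lib.Lead.QC.InvField

/-!
# `H¹` vanishing is preserved by twisting with an effective invertible module (curves).
-/

set_option autoImplicit false
universe u
open CategoryTheory CategoryTheory.Limits AlgebraicGeometry TopologicalSpace Opposite

namespace Groth.Agent.H5.Curve2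

open Groth.Agent.LD Groth.Agent.LD.QC Groth.Agent.H5.Glue

section

variable {X : Scheme.{u}}

/-- the stalk of the cokernel vanishes where the map is locally surjective. -/
lemma subsingleton_stalk_cokernel_of_locSurjAt {A B : X.Modules} (g : A ⟶ B) (x : X)
    (h : LocSurjAt g x) : Subsingleton ((cokernel g).presheaf.stalk x) := by
  refine subsingleton_of_forall_eq 0 (fun c => ?_)
  obtain ⟨b, rfl⟩ := stalkMap_surjective_of_epi (cokernel.π g) x c
  obtain ⟨V, hxV, z, rfl⟩ := TopCat.Presheaf.exists_germ_eq B.presheaf b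
  obtain ⟨W, hWV, hxW, t, ht⟩ := h V z hxV
  rw [stalkMap_germ]
  have h1 := TopCat.Presheaf.germ_res_apply (cokernel g).presheaf (homOfLE hWV) x hxW
    ((cokernel.π g).app V z)
  rw [← h1]
  have h2 : (cokernel g).presheaf.map (homOfLE hWV).op ((cokernel.π g).app V z) = 0 := by
    rw [← app_res (cokernel.π g) hWV z, ← ht]
    change (g ≫ cokernel.π g).app W t = 0
    rw [cokernel.condition]
    rfl
  rw [h2]
  exact map_zero _

/-- twisting by a section is locally surjective on the locus where the section generates. -/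
lemma locSurjAt_tensorMap_section (F P : X.Modules) (σ : unitMod X ⟶ P) (x : X)
    (hx : x ∈ CohB1.genLocus P σ) : LocSurjAt (KoszTw.tensorMap (𝟙 F) σ) x := by
  intro V z hxV
  obtain ⟨U, hxU, hU⟩ := (mem_genLocus_iff P σ x).mp hx
  obtain ⟨f, hf⟩ := (bijective_tmul_of_isBasisOver F P hU (V ⊓ U) inf_le_right).2
    ((CohB1.tensorMod F P).presheaf.map (homOfLE (inf_le_left : V ⊓ U ≤ V)).op z)
  refine ⟨V ⊓ U, inf_le_left, ⟨hxV, hxU⟩,
    SecTwist.tmul F (unitMod X) (V ⊓ U) f (1 : Γ(X, V ⊓ U)), ?_⟩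
  rw [KoszTw.tensorMap_tmul]
  have hf' : SecTwist.tmul F P (V ⊓ U) f
      (P.presheaf.map (homOfLE (inf_le_right : V ⊓ U ≤ U)).op (SecTwist.val σ U)) =
      (CohB1.tensorMod F P).presheaf.map (homOfLE (inf_le_left : V ⊓ U ≤ V)).op z := hf
  rw [← hf']
  congr 1
  exact (SecTwist.map_val σ (homOfLE (inf_le_right : V ⊓ U ≤ U))).symm

variable [IsIntegral X]

lemma genericPoint_mem_genLocus {P : X.Modules} (hP : PicF.IsInvertible P)
    (σ : unitMod X ⟶ P) (hσ : σ ≠ 0) : genericPoint X ∈ CohB1.genLocus P σ := by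
  obtain ⟨U, e, hηU, he⟩ := (isInvertible_iff_exists_isBasisOver P).mp hP (genericPoint X)
  obtain ⟨f, hf⟩ := (he U le_rfl).2 (SecTwist.val σ U)
  have hf' : SecTwist.val σ U = f • e := by
    rw [← hf]
    change f • P.presheaf.map (homOfLE (le_refl U)).op e = f • e
    rw [QC.res_self]
  have hne : f ≠ 0 := coeff_ne_zero hP σ hσ hηU hf'.symm
  have h := genLocus_inf_eq_basicOpen σ he f hf'
  have hne' : X.basicOpen f ≠ ⊥ := fun hb => hne ((AlgebraicGeometry.basicOpen_eq_bot_iff f).mp hb)
  have hmem : genericPoint X ∈ X.basicOpen f := by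
    apply ((genericPoint_spec X).mem_open_set_iff (X.basicOpen f).isOpen).mpr
    rw [Set.univ_inter]
    by_contra hcon
    apply hne'
    ext y
    simp only [Opens.coe_bot, Set.mem_empty_iff_false, iff_false]
    intro hy
    exact hcon ⟨y, hy⟩
  rw [← h] at hmem
  exact hmem.1

end

variable (k : Type u) [Field k] (X : Scheme.{u}) [X.Over (Spec (CommRingCat.of k))]
  [IsProper (X ↘ Spec (CommRingCat.of k))] [IsIntegral X]

include k in
/-- **`H¹(F) = 0 ⇒ H¹(F ⊗ P) = 0`** for `P` invertible with a nonzero section, on an integral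
proper curve. -/
theorem subsingleton_H1_tensor_of_section (hdim : topologicalKrullDim X ≤ 1) (F : X.Modules)
    (hF : Coh.IsCoh F) {P : X.Modules} (hP : PicF.IsInvertible P) (σ : unitMod X ⟶ P)
    (hσ : σ ≠ 0) (h : Subsingleton (Coh.HH X F 1)) :
    Subsingleton (Coh.HH X (CohB1.tensorMod F P) 1) := by
  haveI := Curve.isLocallyNoetherian k X
  haveI : F.IsQuasicoherent := hF.1
  have hk : (k : Type u) = k := rfl
  have hFO : Coh.IsCoh (CohB1.tensorMod F (unitMod X)) :=
    isCoh_tensor_of_isInvertible hF (isInvertible_unit X)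
  have hFP : Coh.IsCoh (CohB1.tensorMod F P) := isCoh_tensor_of_isInvertible hF hP
  let ψ : CohB1.tensorMod F (unitMod X) ⟶ CohB1.tensorMod F P := KoszTw.tensorMap (𝟙 F) σ
  have hK : Coh.IsCoh (kernel ψ) := isCoh_kernel ψ hFO hFP
  have hC : Coh.IsCoh (Abelian.coimage ψ) := isCoh_cokernel (kernel.ι ψ) hK hFO
  have hQ : Coh.IsCoh (cokernel (Abelian.factorThruCoimage ψ)) := isCoh_cokernel _ hC hFP
  let S₁ : ShortComplex X.Modules :=
    ShortComplex.mk (kernel.ι ψ) (Abelian.coimage.π ψ) (cokernel.condition _)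
  have hS₁ : S₁.ShortExact :=
    { exact := ShortComplex.exact_of_g_is_cokernel _ (cokernelIsCokernel (kernel.ι ψ))
      mono_f := inferInstanceAs (Mono (kernel.ι ψ))
      epi_g := inferInstanceAs (Epi (cokernel.π (kernel.ι ψ))) }
  let S₂ : ShortComplex X.Modules :=
    ShortComplex.mk (Abelian.factorThruCoimage ψ) (cokernel.π _) (cokernel.condition _)
  have hS₂ : S₂.ShortExact :=
    { exact := ShortComplex.exact_of_g_is_cokernel _
        (cokernelIsCokernel (Abelian.factorThruCoimage ψ))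
      mono_f := inferInstanceAs (Mono (Abelian.factorThruCoimage ψ))
      epi_g := inferInstanceAs (Epi (cokernel.π (Abelian.factorThruCoimage ψ))) }
  -- H¹(F ⊗ O) = 0
  have h1 : Subsingleton (Coh.HH X (CohB1.tensorMod F (unitMod X)) 1) :=
    CL.subsingleton_of_iso (SecTwist.unitorR F).symm 1 h
  -- H²(K) = 0
  haveI : (kernel ψ).IsQuasicoherent := hK.1
  have h2 : Subsingleton (Coh.HH X (kernel ψ) (1 + 1)) :=
    Curve.subsingleton_HH_of_two_le k X hdim (kernel ψ) 2 le_rfl
  -- H¹(coim) = 0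
  have h3 : Subsingleton (Coh.HH X (Abelian.coimage ψ) 1) := CL.subsingleton_right hS₁ 1 h1 h2
  -- H¹(Q) = 0
  have hloc : ∀ x : X, x ∈ CohB1.genLocus P σ →
      Subsingleton ((cokernel (Abelian.factorThruCoimage ψ)).presheaf.stalk x) := by
    intro x hx
    apply subsingleton_stalk_cokernel_of_locSurjAt
    apply LocSurjAt.of_comp (Abelian.coimage.π ψ)
    have : Abelian.coimage.π ψ ≫ Abelian.factorThruCoimage ψ = ψ :=
      Abelian.coimage.fac ψ
    rw [this]
    exact locSurjAt_tensorMap_section F P σ x hx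
  have hη := genericPoint_mem_genLocus hP σ hσ
  have hpt : ∀ x : X, ¬ Subsingleton ((cokernel (Abelian.factorThruCoimage ψ)).presheaf.stalk x) →
      IsClosed ({x} : Set X) := by
    intro x hx
    apply Curve.isClosed_singleton_of_ne_genericPoint hdim
    rintro rfl
    exact hx (hloc _ hη)
  have hZ := isClosed_support_of_isFiniteType _ hQ.2
  have h4 : Subsingleton (Coh.HH X (cokernel (Abelian.factorThruCoimage ψ)) (0 + 1)) :=
    SC.subsingleton_HH_of_support_closed_points _ hZ hpt 0
  exact CL.subsingleton_mid hS₂ 1 h3 h4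

end Groth.Agent.H5.Curve2
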