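import Mathlib
import Groth.Agent.Lib.Helper5.Curve2.F
import Groth.Agent.Lib.Lead.SC.AmpleCrit
import Groth.Agent.Lib.Lead.PN.AmpleSerreRel
import Groth.Agent.Lib.Lead.QC.AmpleBasis

/-!
# On an integral proper curve, an invertible module of positive degree is ample.
-/

set_option autoImplicit false
universe u
open CategoryTheory CategoryTheory.Limits AlgebraicGeometry TopologicalSpace Opposite

namespace Groth.Agent.H5.Curve2

open Groth.Agent.LD Groth.Agent.LD.QC Groth.Agent.H5.Glue

variable (k : Type u) [Field k] (X : Scheme.{u}) [X.Over (Spec (CommRingCat.of k))]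
  [IsProper (X ↘ Spec (CommRingCat.of k))]

include k in
/-- a nonzero class in `H⁰` gives a nonzero section. -/
lemma exists_section_ne_zero_of_nontrivial_H0 (G : X.Modules) (h : Nontrivial (Coh.HH X G 0)) :
    ∃ σ : unitMod X ⟶ G, σ ≠ 0 := by
  obtain ⟨x, hx⟩ := exists_ne (0 : Coh.HH X G 0)
  letI := PF.moduleΓ k G
  let t : Γ(G, ⊤) := PF.H0LinearEquivΓ k G x
  have ht : t ≠ 0 := by
    intro h0
    apply hx
    have : PF.H0LinearEquivΓ k G x = PF.H0LinearEquivΓ k G 0 := by
      rw [map_zero]; exact h0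
    exact (PF.H0LinearEquivΓ k G).injective this
  refine ⟨homOfSection G t, fun h0 => ht ?_⟩
  have h1 := val_homOfSection G t ⊤
  rw [h0] at h1
  have h2 : SecTwist.val (0 : unitMod X ⟶ G) ⊤ = 0 := rfl
  rw [h2] at h1
  exact ((QC.res_self G _ t).symm.trans h1.symm)

/-- positive Euler characteristic gives a nonzero section (dimension `≤ 1`). -/
lemma exists_section_ne_zero_of_euler_pos (hdim : topologicalKrullDim X ≤ 1) (G : X.Modules)
    [G.IsQuasicoherent] (h : 0 < Curv2.euler k X G) : ∃ σ : unitMod X ⟶ G, σ ≠ 0 := by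
  apply exists_section_ne_zero_of_nontrivial_H0 k X G
  rw [Curve.euler_eq_sub k X hdim G] at h
  have h0 : 0 < Module.finrank k (Coh.HH X G 0) := by
    by_contra hcon
    have : Module.finrank k (Coh.HH X G 0) = 0 := by omega
    rw [this] at h
    have h2 : (0 : ℤ) ≤ (Module.finrank k (Coh.HH X G 1) : ℤ) := Int.natCast_nonneg _
    simp at h
    omega
  exact Module.nontrivial_of_finrank_pos h0

variable [IsIntegral X]

/-- **positive degree ⇒ ample** on an integral proper curve. -/
theorem isAmple_of_deg_pos (hdim : topologicalKrullDim X ≤ 1) {L : X.Modules}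
    (hL : PicF.IsInvertible L) (hdeg : 0 < Curv2.deg k X L 1) : CohB1.IsAmple L := by
  haveI := Curve.compactSpace k X
  haveI := Curve.isLocallyNoetherian k X
  haveI := isSeparated_of_proper k X
  haveI := isNoetherian_of_proper k X
  haveI : L.IsQuasicoherent := qc_of_isInvertible L hL
  obtain ⟨A, hA⟩ := Groth.Agent.H5.Curve1.exists_isAmple_of_integral (X := X) hdim
  haveI : A.IsQuasicoherent := qc_of_isInvertible A hA.1
  apply SC.isAmple_of_h1Zero L hL
  intro I i hi hIqc
  haveI := hIqc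
  have hIc : Coh.IsCoh I := isCoh_of_mono i hIqc (isCoh_of_isInvertible (isInvertible_unit X))
  obtain ⟨b, hb⟩ := PN.AmS.serre_vanishing_of_isAmple k (X ↘ Spec (CommRingCat.of k)) A hA.1 hA
    I hIc
  have hAb := isInvertible_tensorPow hA.1 b
  haveI : (CohB1.tensorPow A b).IsQuasicoherent := qc_of_isInvertible _ hAb
  obtain ⟨B, hB, ⟨eB⟩⟩ := exists_inverse (CohB1.tensorPow A b) hAb
  haveI : B.IsQuasicoherent := qc_of_isInvertible B hB
  -- choose the power of `L`
  let c : ℤ := Curv2.deg k X B 1 + Curv2.euler k X (Coh.structureModule X)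
  let n : ℕ := (-c).toNat
  have hLn := isInvertible_tensorPow hL (n + 1)
  haveI : (CohB1.tensorPow L (n + 1)).IsQuasicoherent := qc_of_isInvertible _ hLn
  have hP : PicF.IsInvertible (CohB1.tensorMod (CohB1.tensorPow L (n + 1)) B) :=
    isInvertible_tensorMod hLn hB
  haveI : (CohB1.tensorMod (CohB1.tensorPow L (n + 1)) B).IsQuasicoherent :=
    qc_of_isInvertible _ hP
  have hχ : 0 < Curv2.euler k X (CohB1.tensorMod (CohB1.tensorPow L (n + 1)) B) := by
    have h1 := deg_tensor k X hdim hLn hB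
    rw [deg_tensorPow k X hdim hL (n + 1)] at h1
    have h2 : Curv2.deg k X (CohB1.tensorMod (CohB1.tensorPow L (n + 1)) B) 1 =
        Curv2.euler k X (CohB1.tensorMod (CohB1.tensorPow L (n + 1)) B) -
          Curv2.euler k X (Coh.structureModule X) := by
      unfold Curv2.deg
      push_cast
      ring
    have h3 : -c ≤ (n : ℤ) := Int.self_le_toNat _
    have h4 : ((n + 1 : ℕ) : ℤ) ≤ ((n + 1 : ℕ) : ℤ) * Curv2.deg k X L 1 := by
      have : (0 : ℤ) ≤ ((n + 1 : ℕ) : ℤ) := Int.natCast_nonneg _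
      nlinarith
    have hc : c = Curv2.deg k X B 1 + Curv2.euler k X (Coh.structureModule X) := rfl
    push_cast at h4 h1
    linarith
  obtain ⟨σ, hσ⟩ := exists_section_ne_zero_of_euler_pos k X hdim _ hχ
  -- the vanishing
  have hF : Coh.IsCoh (CohB1.tensorMod I (CohB1.tensorPow A b)) :=
    isCoh_tensor_of_isInvertible hIc hAb
  have hv := subsingleton_H1_tensor_of_section k X hdim _ hF hP σ hσ (hb b le_rfl 1 Nat.one_pos)
  have iso : CohB1.tensorMod (CohB1.tensorMod I (CohB1.tensorPow A b))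
      (CohB1.tensorMod (CohB1.tensorPow L (n + 1)) B) ≅
      CohB1.tensorMod I (CohB1.tensorPow L (n + 1)) :=
    tensorMiddleFour I (CohB1.tensorPow A b) (CohB1.tensorPow L (n + 1)) B ≪≫
      tensorIso' (Iso.refl _) eB ≪≫ SecTwist.unitorR _
  exact ⟨n, SC.h1Zero_of_HH _ (CL.subsingleton_of_iso iso 1 hv)⟩

end Groth.Agent.H5.Curve2
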