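import Mathlib
import Groth.Agent.Lib.Helper5.Curve2.G
import Groth.Agent.Lib.Lead.CohLES.H0
import Groth.Agent.Lib.Lead.CohLES.Basic

/-!
# Dimension counts for `H⁰` in short exact sequences.
-/

set_option autoImplicit false
universe u
open CategoryTheory CategoryTheory.Limits AlgebraicGeometry TopologicalSpace Opposite

namespace Groth.Agent.H5.Curve2

open Groth.Agent.LD Groth.Agent.LD.QC Groth.Agent.H5.Glue

/-- linear algebra: `dim B = dim A + dim (range g)` for `A ↪ B → C` exact at `B`. -/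
lemma finrank_eq_add_range {k A B C : Type*} [Field k] [AddCommGroup A] [Module k A]
    [AddCommGroup B] [Module k B] [AddCommGroup C] [Module k C] [Module.Finite k B]
    (f : A →ₗ[k] B) (g : B →ₗ[k] C) (hf : Function.Injective f)
    (hex : ∀ b, g b = 0 → ∃ a, f a = b) (hgf : ∀ a, g (f a) = 0) :
    Module.finrank k B = Module.finrank k A + Module.finrank k (LinearMap.range g) := by
  have h1 := LinearMap.finrank_range_add_finrank_ker g
  have h2 : LinearMap.ker g = LinearMap.range f := by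
    ext b
    constructor
    · intro hb
      obtain ⟨a, ha⟩ := hex b hb
      exact ⟨a, ha⟩
    · rintro ⟨a, rfl⟩
      exact hgf a
  rw [h2, LinearMap.finrank_range_of_inj hf] at h1
  omega

variable (k : Type u) [Field k] (X : Scheme.{u}) [X.Over (Spec (CommRingCat.of k))]
  [IsProper (X ↘ Spec (CommRingCat.of k))]

variable {X} in
omit [IsProper (X ↘ Spec (CommRingCat.of k))] in
lemma injective_HHmap_zero {M N : X.Modules} (φ : M ⟶ N) [Mono φ] :
    Function.Injective (CL.HHmap k φ 0) := by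
  intro x y hxy
  apply (CL.HH0Equiv M).injective
  apply mono_app φ ⊤
  have h1 := CL.HH0Equiv_map φ x
  have h2 := CL.HH0Equiv_map φ y
  rw [← h1, ← h2]
  congr 1

/-- `h⁰(X₂) = h⁰(X₁) + dim (image of H⁰(X₂) → H⁰(X₃))`. -/
theorem finrank_H0_eq_add_range {S : ShortComplex X.Modules} (hS : S.ShortExact)
    (h₂ : Coh.IsCoh S.X₂) :
    Module.finrank k (Coh.HH X S.X₂ 0) = Module.finrank k (Coh.HH X S.X₁ 0) +
      Module.finrank k (LinearMap.range (CL.HHmap k S.g 0)) := by
  haveI := Curve.finite_HH k X S.X₂ h₂ 0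
  haveI := hS.mono_f
  exact finrank_eq_add_range (CL.HHmap k S.f 0) (CL.HHmap k S.g 0) (injective_HHmap_zero k S.f)
    (fun b hb => CL.exact₂ hS k 0 b hb) (fun a => CL.HHmap_g_f k 0 a)

/-- `h⁰(X₂) ≤ h⁰(X₁) + h⁰(X₃)`. -/
theorem finrank_H0_le {S : ShortComplex X.Modules} (hS : S.ShortExact)
    (h₂ : Coh.IsCoh S.X₂) (h₃ : Coh.IsCoh S.X₃) :
    Module.finrank k (Coh.HH X S.X₂ 0) ≤ Module.finrank k (Coh.HH X S.X₁ 0) +
      Module.finrank k (Coh.HH X S.X₃ 0) := by
  haveI := Curve.finite_HH k X S.X₃ h₃ 0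
  rw [finrank_H0_eq_add_range k X hS h₂]
  exact Nat.add_le_add_left (Submodule.finrank_le _) _

/-- equality of dimensions forces surjectivity on `H⁰`. -/
theorem surjective_H0_of_finrank_eq {S : ShortComplex X.Modules} (hS : S.ShortExact)
    (h₂ : Coh.IsCoh S.X₂) (h₃ : Coh.IsCoh S.X₃)
    (h : Module.finrank k (Coh.HH X S.X₂ 0) = Module.finrank k (Coh.HH X S.X₁ 0) +
      Module.finrank k (Coh.HH X S.X₃ 0)) : Function.Surjective (CL.HHmap k S.g 0) := by
  haveI := Curve.finite_HH k X S.X₃ h₃ 0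
  have h1 := finrank_H0_eq_add_range k X hS h₂
  have h2 : Module.finrank k (LinearMap.range (CL.HHmap k S.g 0)) =
      Module.finrank k (Coh.HH X S.X₃ 0) := by omega
  exact LinearMap.range_eq_top.mp (Submodule.eq_top_of_finrank_eq h2)

/-- surjectivity on `H⁰` gives additivity of `h⁰`. -/
theorem finrank_H0_eq_of_surjective {S : ShortComplex X.Modules} (hS : S.ShortExact)
    (h₂ : Coh.IsCoh S.X₂)
    (h : Function.Surjective (CL.HHmap k S.g 0)) :
    Module.finrank k (Coh.HH X S.X₂ 0) = Module.finrank k (Coh.HH X S.X₁ 0) +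
      Module.finrank k (Coh.HH X S.X₃ 0) := by
  rw [finrank_H0_eq_add_range k X hS h₂, LinearMap.range_eq_top.mpr h, finrank_top]

end Groth.Agent.H5.Curve2
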