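import Mathlib
import Groth.Agent.Lib.Helper5.Curve2.H

/-!
# `h⁰(L) ≤ deg L + 1` on an integral proper curve with `h⁰(O) = 1`.
-/

set_option autoImplicit false
universe u
open CategoryTheory CategoryTheory.Limits AlgebraicGeometry TopologicalSpace Opposite

namespace Groth.Agent.H5.Curve2

open Groth.Agent.LD Groth.Agent.LD.QC Groth.Agent.H5.Glue

variable (k : Type u) [Field k] (X : Scheme.{u}) [X.Over (Spec (CommRingCat.of k))]
  [IsProper (X ↘ Spec (CommRingCat.of k))] [IsIntegral X]

/-- the short exact sequence `0 → O → L → L/sO → 0` of a nonzero section, and the basic facts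
about its cokernel. -/
theorem cokernel_section_facts (hdim : topologicalKrullDim X ≤ 1) {L : X.Modules}
    (hL : PicF.IsInvertible L) (s : unitMod X ⟶ L) (hs : s ≠ 0) :
    (ShortComplex.mk s (cokernel.π s) (cokernel.condition s)).ShortExact ∧
    Coh.IsCoh (cokernel s) ∧
    (∀ x : X, ¬ Subsingleton ((cokernel s).presheaf.stalk x) → IsClosed ({x} : Set X)) ∧
    (Module.finrank k (Coh.HH X (cokernel s) 0) : ℤ) = Curv2.deg k X L 1 := by
  haveI := Curve.mono_of_ne_zero (isInvertible_unit X) hL s hs
  have hOc := isCoh_of_isInvertible (isInvertible_unit X)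
  have hLc := isCoh_of_isInvertible hL
  have hQc : Coh.IsCoh (cokernel s) := isCoh_cokernel s hOc hLc
  have hS : (ShortComplex.mk s (cokernel.π s) (cokernel.condition s)).ShortExact :=
    { exact := ShortComplex.exact_cokernel s
      mono_f := inferInstanceAs (Mono s)
      epi_g := inferInstanceAs (Epi (cokernel.π s)) }
  have hη := Curve.subsingleton_stalk_cokernel 1 ((isInvertible_iff _).mp (isInvertible_unit X))
    ((isInvertible_iff L).mp hL) s
  have hpt : ∀ x : X, ¬ Subsingleton ((cokernel s).presheaf.stalk x) → IsClosed ({x} : Set X) :=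
    fun x hx => Curve.isClosed_singleton_of_stalk hdim (cokernel s) hη x hx
  refine ⟨hS, hQc, hpt, ?_⟩
  have h1 := Curve.euler_add k X _ hS hOc hLc hQc
  have h1' : Curv2.euler k X L =
      Curv2.euler k X (Coh.structureModule X) + Curv2.euler k X (cokernel s) := h1
  have h2 := Curve.euler_of_support_closed_points k X _ hQc hpt
  have h4 : Curv2.deg k X L 1 = Curv2.euler k X L - Curv2.euler k X (Coh.structureModule X) := by
    unfold Curv2.deg
    push_cast
    ring
  linarith

/-- **`h⁰(L) ≤ deg L + 1`** for an invertible module with a nonzero section, when `h⁰(O) = 1`;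
in case of equality, `H⁰(L) → H⁰(L/sO)` is surjective. -/
theorem finrank_H0_le_deg_add_one (hdim : topologicalKrullDim X ≤ 1)
    (h0 : Module.finrank k (Coh.HH X (Coh.structureModule X) 0) = 1) {L : X.Modules}
    (hL : PicF.IsInvertible L) (s : unitMod X ⟶ L) (hs : s ≠ 0) :
    (Module.finrank k (Coh.HH X L 0) : ℤ) ≤ Curv2.deg k X L 1 + 1 ∧
      ((Module.finrank k (Coh.HH X L 0) : ℤ) = Curv2.deg k X L 1 + 1 →
        Function.Surjective (CL.HHmap k (cokernel.π s) 0)) := by
  obtain ⟨hS, hQc, hpt, hd⟩ := cokernel_section_facts k X hdim hL s hs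
  have hLc := isCoh_of_isInvertible hL
  have h0' : Module.finrank k (Coh.HH X (unitMod X) 0) = 1 := h0
  constructor
  · have h1 := finrank_H0_le k X hS hLc hQc
    change Module.finrank k (Coh.HH X L 0) ≤ Module.finrank k (Coh.HH X (unitMod X) 0) +
      Module.finrank k (Coh.HH X (cokernel s) 0) at h1
    rw [h0'] at h1
    rw [← hd]
    exact_mod_cast (by omega : Module.finrank k (Coh.HH X L 0) ≤
      Module.finrank k (Coh.HH X (cokernel s) 0) + 1)
  · intro heq
    apply surjective_H0_of_finrank_eq k X hS hLc hQc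
    change Module.finrank k (Coh.HH X L 0) = Module.finrank k (Coh.HH X (unitMod X) 0) +
      Module.finrank k (Coh.HH X (cokernel s) 0)
    rw [h0']
    rw [← hd] at heq
    have : Module.finrank k (Coh.HH X L 0) = Module.finrank k (Coh.HH X (cokernel s) 0) + 1 := by
      exact_mod_cast heq
    omega

end Groth.Agent.H5.Curve2
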