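import Mathlib
import Groth.Agent.Lib.Helper5.Curve2.I

/-!
# Lifting a generator of `L/sO`: a section of `L` generating `L` at the zeros of `s`.
-/

set_option autoImplicit false
universe u
open CategoryTheory CategoryTheory.Limits AlgebraicGeometry TopologicalSpace Opposite

namespace Groth.Agent.H5.Curve2

open Groth.Agent.LD Groth.Agent.LD.QC Groth.Agent.H5.Glue

variable {X : Scheme.{u}}

/-- a section is locally surjective where it generates. -/
lemma locSurjAt_section {L : X.Modules} (s : unitMod X ⟶ L) (x : X)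
    (hx : x ∈ CohB1.genLocus L s) : LocSurjAt s x := by
  intro V z hxV
  obtain ⟨U, hxU, hU⟩ := (mem_genLocus_iff L s x).mp hx
  obtain ⟨a, ha⟩ := (hU (V ⊓ U) inf_le_right).2
    (L.presheaf.map (homOfLE (inf_le_left : V ⊓ U ≤ V)).op z)
  refine ⟨V ⊓ U, inf_le_left, ⟨hxV, hxU⟩, a, ?_⟩
  have ha' : a • L.presheaf.map (homOfLE (inf_le_right : V ⊓ U ≤ U)).op (SecTwist.val s U) =
      L.presheaf.map (homOfLE (inf_le_left : V ⊓ U ≤ V)).op z := ha
  rw [unitHom_app L s (V ⊓ U) a, ← ha']
  congr 1
  exact (SecTwist.map_val s (homOfLE (inf_le_right : V ⊓ U ≤ U))).symm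

lemma isUnit_one_add_mul_of_not_isUnit {R : Type*} [CommRing R] [IsLocalRing R] (a f : R)
    (hf : ¬ IsUnit f) : IsUnit (1 + a * f) := by
  have h : (1 + a * f) + (-(a * f)) = 1 := by ring
  rcases IsLocalRing.isUnit_or_isUnit_of_add_one h with h1 | h1
  · exact h1
  · exfalso
    apply hf
    have h2 : IsUnit (a * f) := by
      have := h1.neg
      simpa using this
    exact isUnit_of_mul_isUnit_right h2

variable [IsIntegral X]

/-- if `Γ(L) → Γ(L/sO)` is surjective, there is a global section of `L` generating `L` at every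
zero of `s` (integral Noetherian scheme of dimension at most one). -/
theorem exists_section_generating_on_zeros [NoetherianSpace X] (hdim : topologicalKrullDim X ≤ 1)
    {L : X.Modules} (hL : PicF.IsInvertible L) (s : unitMod X ⟶ L) (hs : s ≠ 0)
    (hsurj : Function.Surjective ((cokernel.π s).app ⊤)) :
    ∃ t : unitMod X ⟶ L, ∀ y : X, y ∉ CohB1.genLocus L s → y ∈ CohB1.genLocus L t := by
  classical
  haveI := Curve.mono_of_ne_zero (isInvertible_unit X) hL s hs
  have hη := genericPoint_mem_genLocus hL s hs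
  let S : Set X := ((CohB1.genLocus L s : X.Opens) : Set X)ᶜ
  have hScl : IsClosed S := (CohB1.genLocus L s).isOpen.isClosed_compl
  have hSfin : S.Finite :=
    Groth.Agent.H5.Curve1.finite_compl_of_nonempty hdim (CohB1.genLocus L s) ⟨_, hη⟩
  have hpt : ∀ x ∈ S, IsClosed ({x} : Set X) := by
    intro x hx
    apply Curve.isClosed_singleton_of_ne_genericPoint hdim
    rintro rfl
    exact hx hη
  have hsupp : SuppIn (cokernel s) S := by
    intro x hx
    have hx' : x ∈ CohB1.genLocus L s := not_not.mp hx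
    exact subsingleton_stalk_cokernel_of_locSurjAt s x (locSurjAt_section s x hx')
  have hiso := fun y : S => exists_isolating_open S hSfin hpt y
  choose W' hW'1 hW'2 using hiso
  have hb := fun y : S => (isInvertible_iff_exists_isBasisOver L).mp hL y.1
  choose U e hyU he using hb
  let W : S → X.Opens := fun y => U y ⊓ W' y
  have hW : ∀ y : S, y.1 ∈ W y := fun y => ⟨hyU y, hW'1 y⟩
  have hWiso : ∀ y y' : S, y'.1 ∈ W y → y' = y := fun y y' hy => hW'2 y y' hy.2
  have hWU : ∀ y, W y ≤ U y := fun y => inf_le_left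
  obtain ⟨q, hq⟩ := (bijective_res_family (cokernel s) S hScl hsupp W hW hWiso).2
    (fun y => (cokernel.π s).app (W y) (L.presheaf.map (homOfLE (hWU y)).op (e y)))
  obtain ⟨t₀, ht₀⟩ := hsurj q
  refine ⟨homOfSection L t₀, fun y hy => ?_⟩
  let y' : S := ⟨y, hy⟩
  have heW : IsBasisOver L (W y') (L.presheaf.map (homOfLE (hWU y')).op (e y')) :=
    (he y').mono (hWU y')
  -- the difference lies in the image of `s`
  have hq' : mres (cokernel s) (le_top : W y' ≤ ⊤) q =
      (cokernel.π s).app (W y') (L.presheaf.map (homOfLE (hWU y')).op (e y')) := congrFun hq y'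
  have hdiff : (cokernel.π s).app (W y')
      (L.presheaf.map (homOfLE (le_top : W y' ≤ ⊤)).op t₀ -
        L.presheaf.map (homOfLE (hWU y')).op (e y')) = 0 := by
    rw [map_sub, ← hq', app_res (cokernel.π s) (le_top : W y' ≤ ⊤) t₀, ht₀]
    exact sub_self _
  have hex : (ShortComplex.mk s (cokernel.π s) (cokernel.condition s)).Exact :=
    ShortComplex.exact_cokernel s
  haveI : Mono (ShortComplex.mk s (cokernel.π s) (cokernel.condition s)).f :=
    inferInstanceAs (Mono s)
  obtain ⟨a, ha'⟩ : ∃ a : Γ(X, W y'), s.app (W y') a =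
      L.presheaf.map (homOfLE (le_top : W y' ≤ ⊤)).op t₀ -
        L.presheaf.map (homOfLE (hWU y')).op (e y') := exact_sections' _ hex (W y') _ hdiff
  -- coefficient of `s`
  obtain ⟨f, hf⟩ := (heW (W y') le_rfl).2 (SecTwist.val s (W y'))
  have hf' : SecTwist.val s (W y') = f • L.presheaf.map (homOfLE (hWU y')).op (e y') := by
    rw [← hf]
    change f • L.presheaf.map (homOfLE (le_refl (W y'))).op _ = _
    rw [QC.res_self]
  have hfy : y ∉ X.basicOpen f := by
    rw [← genLocus_inf_eq_basicOpen s heW f hf']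
    intro h
    exact hy h.1
  have hfy' : ¬ IsUnit (X.presheaf.germ (W y') y (hW y') f) := by
    intro h
    exact hfy ((Scheme.mem_basicOpen X f y (hW y')).mpr h)
  -- `t₀ = (1 + a f) e`
  have ht : SecTwist.val (homOfSection L t₀) (W y') =
      (1 + a * f) • L.presheaf.map (homOfLE (hWU y')).op (e y') := by
    rw [val_homOfSection]
    have h1 : L.presheaf.map (homOfLE (le_top : W y' ≤ ⊤)).op t₀ =
        L.presheaf.map (homOfLE (hWU y')).op (e y') + s.app (W y') a := by
      rw [ha']; abel
    rw [h1, unitHom_app L s (W y') a]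
    have h2 : s.app (W y') (1 : Γ(X, W y')) = SecTwist.val s (W y') := rfl
    rw [h2, hf', add_smul, one_smul, mul_smul]
  have hmem : y ∈ X.basicOpen (1 + a * f) := by
    rw [Scheme.mem_basicOpen X _ y (hW y'), map_add, map_one, map_mul]
    exact isUnit_one_add_mul_of_not_isUnit _ _ hfy'
  rw [← genLocus_inf_eq_basicOpen (homOfSection L t₀) heW (1 + a * f) ht] at hmem
  exact hmem.1

end Groth.Agent.H5.Curve2
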