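import Mathlib
import Groth.Agent.Lib.Helper5.Curve2.J

/-!
# Linear series of maximal dimension force genus zero.
-/

set_option autoImplicit false
universe u
open CategoryTheory CategoryTheory.Limits AlgebraicGeometry TopologicalSpace Opposite

namespace Groth.Agent.H5.Curve2

open Groth.Agent.LD Groth.Agent.LD.QC Groth.Agent.H5.Glue

variable (k : Type u) [Field k] (X : Scheme.{u}) [X.Over (Spec (CommRingCat.of k))]
  [IsProper (X ↘ Spec (CommRingCat.of k))]

include k in
/-- twisting a torsion module by a section generating along its support is surjective on `H⁰`. -/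
theorem surjective_H0_tensorMap_section (T : X.Modules) (hT : Coh.IsCoh T)
    (hpt : ∀ x : X, ¬ Subsingleton (T.presheaf.stalk x) → IsClosed ({x} : Set X))
    {M : X.Modules} (hM : PicF.IsInvertible M) (τ : unitMod X ⟶ M)
    (hτ : ∀ x : X, ¬ Subsingleton (T.presheaf.stalk x) → x ∈ CohB1.genLocus M τ) :
    Function.Surjective (CL.HHmapZ (KoszTw.tensorMap (𝟙 T) τ) 0) := by
  haveI := Curve.isLocallyNoetherian k X
  haveI : T.IsQuasicoherent := hT.1
  let Z : Set X := {x : X | ¬ Subsingleton (T.presheaf.stalk x)}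
  have hZ : IsClosed Z := isClosed_support_of_isFiniteType T hT.2
  have hsupp : SuppIn T Z := fun x hx => not_not.mp hx
  have hsuppM : SuppIn (CohB1.tensorMod T M) Z := hsupp.tensor hZ M hM
  have hsuppO : SuppIn (CohB1.tensorMod T (unitMod X)) Z :=
    hsupp.tensor hZ _ (isInvertible_unit X)
  let ψ : CohB1.tensorMod T (unitMod X) ⟶ CohB1.tensorMod T M := KoszTw.tensorMap (𝟙 T) τ
  have hepi : Epi ψ := by
    apply epi_of_locSurjAt
    intro x
    by_cases hx : x ∈ Z
    · exact locSurjAt_tensorMap_section T M τ x (hτ x hx)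
    · intro V z hxV
      let V' : X.Opens := V ⊓ ⟨Zᶜ, hZ.isOpen_compl⟩
      have hV' : ∀ y ∈ V', y ∉ Z := fun y hy => hy.2
      refine ⟨V', inf_le_left, ⟨hxV, hx⟩, 0, ?_⟩
      rw [map_zero]
      exact (sec_eq_zero_of_disjoint hsuppM V' hV' _).symm
  have hTO : Coh.IsCoh (CohB1.tensorMod T (unitMod X)) :=
    isCoh_tensor_of_isInvertible hT (isInvertible_unit X)
  have hTM : Coh.IsCoh (CohB1.tensorMod T M) := isCoh_tensor_of_isInvertible hT hM
  have hK : Coh.IsCoh (kernel ψ) := isCoh_kernel ψ hTO hTM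
  have hKpt : ∀ x : X, ¬ Subsingleton ((kernel ψ).presheaf.stalk x) → IsClosed ({x} : Set X) := by
    intro x hx
    apply hpt x
    intro hsub
    have h1 : x ∈ CohB1.support (CohB1.tensorMod T (unitMod X)) :=
      support_subset_of_mono (kernel.ι ψ) hx
    exact h1 (hsuppO x (fun hxZ => hxZ hsub))
  have hKZ := isClosed_support_of_isFiniteType _ hK.2
  have h1 : Subsingleton (Coh.HH X (kernel ψ) (0 + 1)) :=
    SC.subsingleton_HH_of_support_closed_points _ hKZ hKpt 0
  let S : ShortComplex X.Modules := ShortComplex.mk (kernel.ι ψ) ψ (kernel.condition ψ)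
  have hS : S.ShortExact :=
    { exact := ShortComplex.exact_kernel ψ
      mono_f := inferInstanceAs (Mono (kernel.ι ψ))
      epi_g := hepi }
  exact CL.surjective_of_subsingleton hS 0 h1

end Groth.Agent.H5.Curve2
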