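import Mathlib
import Groth.Agent.Lib.Helper5.Curve2.K

/-!
# Linear series of maximal dimension force genus zero (main theorem).
-/

set_option autoImplicit false
universe u
open CategoryTheory CategoryTheory.Limits AlgebraicGeometry TopologicalSpace Opposite

namespace Groth.Agent.H5.Curve2

open Groth.Agent.LD Groth.Agent.LD.QC Groth.Agent.H5.Glue

variable (k : Type u) [Field k] (X : Scheme.{u}) [X.Over (Spec (CommRingCat.of k))]
  [IsProper (X ↘ Spec (CommRingCat.of k))] [IsIntegral X]

omit [IsProper (X ↘ Spec (CommRingCat.of k))] [IsIntegral X] in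
lemma finrank_HH_iso {M N : X.Modules} (e : M ≅ N) (j : ℕ) :
    Module.finrank k (Coh.HH X M j) = Module.finrank k (Coh.HH X N j) :=
  (CL.HHisoEquiv k e j).finrank_eq

/-- if `h⁰(L) = deg L + 1` then `h⁰(L^n) = n · deg L + 1` for all `n`. -/
theorem finrank_H0_tensorPow_of_max (hdim : topologicalKrullDim X ≤ 1)
    (h0 : Module.finrank k (Coh.HH X (Coh.structureModule X) 0) = 1) {L : X.Modules}
    (hL : PicF.IsInvertible L) (s : unitMod X ⟶ L) (hs : s ≠ 0)
    (heq : (Module.finrank k (Coh.HH X L 0) : ℤ) = Curv2.deg k X L 1 + 1) (n : ℕ) :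
    (Module.finrank k (Coh.HH X (CohB1.tensorPow L n) 0) : ℤ) = n * Curv2.deg k X L 1 + 1 := by
  haveI := Curve.isLocallyNoetherian k X
  haveI := isNoetherian_of_proper k X
  haveI : L.IsQuasicoherent := qc_of_isInvertible L hL
  obtain ⟨hS, hQc, hpt, hd⟩ := cokernel_section_facts k X hdim hL s hs
  have hLc := isCoh_of_isInvertible hL
  have hOc := isCoh_of_isInvertible (isInvertible_unit X)
  haveI : (cokernel s).IsQuasicoherent := hQc.1
  have hsurj₀ := (finrank_H0_le_deg_add_one k X hdim h0 hL s hs).2 heq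
  -- surjectivity on global sections
  have hsurjΓ : Function.Surjective ((cokernel.π s).app ⊤) := by
    intro q
    obtain ⟨x₂, hx₂⟩ := hsurj₀ ((CL.HH0Equiv (cokernel s)).symm q)
    refine ⟨CL.HH0Equiv L x₂, ?_⟩
    rw [← CL.HH0Equiv_map (cokernel.π s) x₂]
    have h1 : CL.HHmapZ (cokernel.π s) 0 x₂ = CL.HHmap k (cokernel.π s) 0 x₂ := rfl
    rw [h1, hx₂, AddEquiv.apply_symm_apply]
  obtain ⟨t, ht⟩ := exists_section_generating_on_zeros hdim hL s hs hsurjΓ
  have hQt : ∀ (m : ℕ) (x : X), ¬ Subsingleton ((cokernel s).presheaf.stalk x) →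
      x ∈ CohB1.genLocus _ (SecTwist.powHom t m) := by
    intro m x hx
    apply le_genLocus_powHom hL t m
    apply ht
    intro hxs
    exact hx (subsingleton_stalk_cokernel_of_locSurjAt s x (locSurjAt_section s x hxs))
  -- dimension bookkeeping
  have hdQ : (Module.finrank k (Coh.HH X L 0) : ℤ) =
      (Module.finrank k (Coh.HH X (cokernel s) 0) : ℤ) + 1 := by rw [hd]; exact heq
  have hdQ' : Module.finrank k (Coh.HH X L 0) =
      Module.finrank k (Coh.HH X (cokernel s) 0) + 1 := by exact_mod_cast hdQ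
  have h0' : Module.finrank k (Coh.HH X (unitMod X) 0) = 1 := h0
  -- P(0)
  have hS₀ := shortExact_tensorMap_of_isInvertible hS (unitMod X) (isInvertible_unit X)
  have hP0 : Function.Surjective
      (CL.HHmapZ (KoszTw.tensorMap (cokernel.π s) (𝟙 (unitMod X))) 0) := by
    have := surjective_H0_of_finrank_eq k X hS₀
      (isCoh_tensor_of_isInvertible hLc (isInvertible_unit X))
      (isCoh_tensor_of_isInvertible hQc (isInvertible_unit X)) (by
        change Module.finrank k (Coh.HH X (CohB1.tensorMod L (unitMod X)) 0) =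
          Module.finrank k (Coh.HH X (CohB1.tensorMod (unitMod X) (unitMod X)) 0) +
          Module.finrank k (Coh.HH X (CohB1.tensorMod (cokernel s) (unitMod X)) 0)
        rw [finrank_HH_iso k X (SecTwist.unitorR L) 0,
          finrank_HH_iso k X (SecTwist.unitorR (unitMod X)) 0,
          finrank_HH_iso k X (SecTwist.unitorR (cokernel s)) 0, h0', hdQ']
        omega)
    exact this
  -- P(m)
  have hP : ∀ m : ℕ, Function.Surjective
      (CL.HHmapZ (KoszTw.tensorMap (cokernel.π s) (𝟙 (CohB1.tensorPow L m))) 0) := by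
    intro m
    have h2 := surjective_H0_tensorMap_section k X (cokernel s) hQc hpt
      (isInvertible_tensorPow hL m) (SecTwist.powHom t m) (hQt m)
    have hsq : KoszTw.tensorMap (cokernel.π s) (𝟙 (unitMod X)) ≫
        KoszTw.tensorMap (𝟙 (cokernel s)) (SecTwist.powHom t m) =
        KoszTw.tensorMap (𝟙 L) (SecTwist.powHom t m) ≫
          KoszTw.tensorMap (cokernel.π s) (𝟙 (CohB1.tensorPow L m)) := by
      rw [← KoszTw.tensorMap_comp, ← KoszTw.tensorMap_comp, Category.comp_id, Category.id_comp,
        Category.comp_id, Category.id_comp]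
    intro z
    obtain ⟨y, hy⟩ := h2 z
    obtain ⟨x, hx⟩ := hP0 y
    refine ⟨CL.HHmapZ (KoszTw.tensorMap (𝟙 L) (SecTwist.powHom t m)) 0 x, ?_⟩
    rw [← CL.HHmapZ_comp, ← hsq, CL.HHmapZ_comp, hx, hy]
  -- the recursion
  have hrec : ∀ m : ℕ, Module.finrank k (Coh.HH X (CohB1.tensorPow L (m + 1)) 0) =
      Module.finrank k (Coh.HH X (CohB1.tensorPow L m) 0) +
        Module.finrank k (Coh.HH X (cokernel s) 0) := by
    intro m
    have hLm := isInvertible_tensorPow hL m
    haveI : (CohB1.tensorPow L m).IsQuasicoherent := qc_of_isInvertible _ hLm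
    have hSm := shortExact_tensorMap_of_isInvertible hS (CohB1.tensorPow L m) hLm
    have h1 := finrank_H0_eq_of_surjective k X hSm (isCoh_tensor_of_isInvertible hLc hLm) (hP m)
    have h1' : Module.finrank k (Coh.HH X (CohB1.tensorMod L (CohB1.tensorPow L m)) 0) =
        Module.finrank k (Coh.HH X (CohB1.tensorMod (unitMod X) (CohB1.tensorPow L m)) 0) +
        Module.finrank k (Coh.HH X (CohB1.tensorMod (cokernel s) (CohB1.tensorPow L m)) 0) := h1
    rw [(finrank_tensor_of_support_closed_points k X (cokernel s) hQc hpt _ hLm).2.2,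
      finrank_HH_iso k X (unitorL (CohB1.tensorPow L m)) 0,
      finrank_HH_iso k X (tensorComm L (CohB1.tensorPow L m)) 0] at h1'
    exact h1'
  induction n with
  | zero =>
    change (Module.finrank k (Coh.HH X (Coh.structureModule X) 0) : ℤ) = _
    rw [h0]
    simp
  | succ m ih =>
    rw [hrec m]
    push_cast
    rw [ih, hd]
    ring

end Groth.Agent.H5.Curve2
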