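import Mathlib
import Groth.Agent.Lib.Helper5.Curve2.L

/-!
# `h⁰(L) = deg L + 1`, `deg L > 0` ⇒ genus zero.
-/

set_option autoImplicit false
universe u
open CategoryTheory CategoryTheory.Limits AlgebraicGeometry TopologicalSpace Opposite

namespace Groth.Agent.H5.Curve2

open Groth.Agent.LD Groth.Agent.LD.QC Groth.Agent.H5.Glue

variable (k : Type u) [Field k] (X : Scheme.{u}) [X.Over (Spec (CommRingCat.of k))]
  [IsProper (X ↘ Spec (CommRingCat.of k))] [IsIntegral X]

theorem genus_eq_zero_of_max (hdim : topologicalKrullDim X ≤ 1)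
    (h0 : Module.finrank k (Coh.HH X (Coh.structureModule X) 0) = 1) {L : X.Modules}
    (hL : PicF.IsInvertible L) (s : unitMod X ⟶ L) (hs : s ≠ 0)
    (heq : (Module.finrank k (Coh.HH X L 0) : ℤ) = Curv2.deg k X L 1 + 1)
    (hdeg : 0 < Curv2.deg k X L 1) : Curv2.genus k X = 0 := by
  haveI : L.IsQuasicoherent := qc_of_isInvertible L hL
  have hOc := isCoh_of_isInvertible (isInvertible_unit X)
  haveI : (unitMod X).IsQuasicoherent := hOc.1
  have hA := isAmple_of_deg_pos k X hdim hL hdeg
  obtain ⟨n₀, hn₀⟩ := PN.AmS.serre_vanishing_of_isAmple k (X ↘ Spec (CommRingCat.of k)) L hL hA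
    (unitMod X) hOc
  have hLn := isInvertible_tensorPow hL n₀
  haveI : (CohB1.tensorPow L n₀).IsQuasicoherent := qc_of_isInvertible _ hLn
  have hv : Subsingleton (Coh.HH X (CohB1.tensorPow L n₀) 1) :=
    CL.subsingleton_of_iso (unitorL (CohB1.tensorPow L n₀)) 1 (hn₀ n₀ le_rfl 1 Nat.one_pos)
  have h1 : Module.finrank k (Coh.HH X (CohB1.tensorPow L n₀) 1) = 0 :=
    Module.finrank_zero_of_subsingleton
  have h2 := finrank_H0_tensorPow_of_max k X hdim h0 hL s hs heq n₀
  have h3 := Curve.euler_eq_sub k X hdim (CohB1.tensorPow L n₀)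
  have h4 := Curve.euler_eq_sub k X hdim (unitMod X)
  have h5 := deg_tensorPow k X hdim hL n₀
  have h6 : Curv2.deg k X (CohB1.tensorPow L n₀) 1 =
      Curv2.euler k X (CohB1.tensorPow L n₀) - Curv2.euler k X (Coh.structureModule X) := by
    unfold Curv2.deg
    push_cast
    ring
  have h7 : Curv2.euler k X (unitMod X) = Curv2.euler k X (Coh.structureModule X) := rfl
  have h0' : Module.finrank k (Coh.HH X (unitMod X) 0) = 1 := h0
  have hg : (Module.finrank k (Coh.HH X (unitMod X) 1) : ℤ) = (Curv2.genus k X : ℤ) := rfl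
  rw [h1, h2] at h3
  rw [h0', hg] at h4
  have : (Curv2.genus k X : ℤ) = 0 := by
    push_cast at h3 h4
    linarith
  exact_mod_cast this

end Groth.Agent.H5.Curve2
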